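import Cfsg.Agent.X9O.Sy

/-!
# Large extraspecial subgroups of order `2⁹`: models given by configurations of vectors

The centraliser of `z` is described by the permutations it induces on a spanning family of
singular vectors.
-/

set_option autoImplicit false

universe u

namespace Cfsg.Lib.X9M

open Subgroup Cfsg.Lib.Local Cfsg.Lib.Solv Module Cfsg.Lib.Spor Cfsg.Lib.LX

variable {G : Type u} [Group G] {z : G} {V : Type*} [AddCommGroup V] [Module (ZMod 2) V]
  {ι : Type}

/-- The element `c` of `C(z)` induces the map `η` on the family `p`. -/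
def Act (S : Sh (qOf z) z V) (p : ι → V) (c : G) (η : ι → ι) : Prop :=
  c ∈ centralizer ({z} : Set G) ∧ ∀ i, S.ρ c (p i) = p (η i)

/-- A model: Gram matrix `β`, the maps in `gens` are induced by `C(z)`, the groups `Q_w ∩ C(z)`
induce maps in `Γ`. -/
structure PM (S : Sh (qOf z) z V) (p : ι → V) (β : ι → ι → ZMod 2) (gens : List (ι → ι))
    (Γ : (ι → ι) → Prop) : Prop where
  dim : finrank (ZMod 2) V = 8
  nd : ∀ v, (∀ i, S.b (p i) v = 0) → v = 0
  q0 : ∀ i, S.q (p i) = 0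
  b : ∀ i j, S.b (p i) (p j) = β i j
  lift : ∀ γ ∈ gens, ∃ g, Act S p g γ
  sub : ∀ w, NW z w → ∀ a ∈ BB z w, ∃ γ, Γ γ ∧ Act S p a γ
  nw : ∃ s, NW z s
  t1 : ∀ w, NW z w → T1 S w

/-- The pure tensors of `2 ⊗ 2 ⊗ 2`. -/
abbrev IA := Fin 3 × Fin 3 × Fin 3
def βA (x y : IA) : ZMod 2 := if x.1 = y.1 ∨ x.2.1 = y.2.1 ∨ x.2.2 = y.2.2 then 0 else 1
def gA : List (IA → IA) := [fun x => (x.1 + 1, x.2), fun x => (x.1, x.2.1 + 1, x.2.2),
  fun x => (x.1, x.2.1, x.2.2 + 1)]
def ΓA (γ : IA → IA) : Prop := ∃ a b c : Equiv.Perm (Fin 3), ∀ x, γ x = (a x.1, b x.2.1, c x.2.2)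

/-- The pure tensors of `2 ⊗ O₄⁻(2)` with singular second factor. -/
abbrev IB := Fin 3 × Fin 5
def βB (x y : IB) : ZMod 2 := if x.1 = y.1 ∨ x.2 = y.2 then 0 else 1
def gB : List (IB → IB) := [fun x => (x.1 + 1, x.2), fun x => (x.1, x.2 + 1)]
def ΓB (γ : IB → IB) : Prop := ∃ (a : Equiv.Perm (Fin 3)) (b : Equiv.Perm (Fin 5)),
  Equiv.Perm.sign b = 1 ∧ ∀ x, γ x = (a x.1, b x.2)

/-- The projective line over `𝔽₈ = 𝔽₂[ω]`, `ω³ = ω + 1`: `0` is `∞` and `n + 1` is the field element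
with binary digits `n`. The point having the cross ratio `ω` with `i, j, k`. -/
def mC (i j k : Fin 9) : Fin 9 := Fin.ofNat 9
  (0x888888888883154602858270341820816437802685173814728065841307856865032784837461528772436051777777777177052438671708342278371506075167824570614783374280675473825167646712503066421385666666666136680724316267058706856142486035671256308467526174836503521746358512064425507183555555555087556321241585607614570538730564852162538475415340627640245831034148572763442108444444444182044756307841465528746043251647384351063472234603158583413027402373861720133685333333333168753304047823536615283743230175264125830246712384205048261273561028237657402281222222222403657228384716252127604315412068513301725814284137016653810712560271418035486117111111111748352611064257130501386420240831750317024680135702860428610570753168040682475300000000000 >>>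
    (4 * (81 * i.1 + 9 * j.1 + k.1)) % 16)
def βC (x y : Fin 9) : ZMod 2 := if x = y then 0 else 1
/-- The maps `x ↦ 1 / x` and `x ↦ ω x`. -/
def gC : List (Fin 9 → Fin 9) := [![1, 0, 2, 6, 7, 8, 3, 4, 5], ![0, 1, 3, 5, 7, 4, 2, 8, 6]]
def ΓC (γ : Fin 9 → Fin 9) : Prop := ∀ i j k, γ (mC i j k) = mC (γ i) (γ j) (γ k)

instance : DecidablePred ΓC := fun _ => by unfold ΓC; infer_instance

theorem Act_eq_1' : type_of% @Act.eq_1 := @Act.eq_1
theorem βA_eq_1' : type_of% @βA.eq_1 := @βA.eq_1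
theorem gA_eq_1' : type_of% @gA.eq_1 := @gA.eq_1
theorem ΓA_eq_1' : type_of% @ΓA.eq_1 := @ΓA.eq_1
theorem βB_eq_1' : type_of% @βB.eq_1 := @βB.eq_1
theorem gB_eq_1' : type_of% @gB.eq_1 := @gB.eq_1
theorem ΓB_eq_1' : type_of% @ΓB.eq_1 := @ΓB.eq_1
theorem mC_eq_1' : type_of% @mC.eq_1 := @mC.eq_1
theorem βC_eq_1' : type_of% @βC.eq_1 := @βC.eq_1
theorem gC_eq_1' : type_of% @gC.eq_1 := @gC.eq_1
theorem ΓC_eq_1' : type_of% @ΓC.eq_1 := @ΓC.eq_1

theorem ΓA.id : ΓA id := ⟨1, 1, 1, fun _ => rfl⟩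

theorem ΓA.comp {γ δ : IA → IA} (h : ΓA γ) (k : ΓA δ) : ΓA (γ ∘ δ) := by
  obtain ⟨a, b, c, h⟩ := h
  obtain ⟨a', b', c', k⟩ := k
  exact ⟨a * a', b * b', c * c', fun x => by rw [Function.comp, k, h]; rfl⟩

theorem ΓB.id : ΓB id := ⟨1, 1, map_one _, fun _ => rfl⟩

theorem ΓB.comp {γ δ : IB → IB} (h : ΓB γ) (k : ΓB δ) : ΓB (γ ∘ δ) := by
  obtain ⟨a, b, c, h⟩ := h
  obtain ⟨a', b', c', k⟩ := k
  exact ⟨a * a', b * b', by rw [map_mul, c, c', one_mul], fun x => by rw [Function.comp, k, h]; rfl⟩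

theorem ΓC.id : ΓC id := fun _ _ _ => rfl

theorem ΓC.comp {γ δ : Fin 9 → Fin 9} (h : ΓC γ) (k : ΓC δ) : ΓC (γ ∘ δ) := fun i j l => by
  rw [Function.comp, k, h]; rfl

variable {S : Sh (qOf z) z V} {p : ι → V} {a c : G} {η γ : ι → ι}

theorem Act.one : Act S p 1 id := ⟨one_mem _, fun _ => S.ρ_one _⟩

theorem Act.of_mem (h : a ∈ qOf z) : Act S p a id := ⟨qOf_le z h, fun _ => S.ρ_of_mem h _⟩

theorem Act.mul (h : Act S p a η) (k : Act S p c γ) : Act S p (a * c) (η ∘ γ) :=
  ⟨mul_mem h.1 k.1, fun i => by rw [S.ρ_mul h.1 k.1, k.2, h.2]; rfl⟩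

theorem Act.congr (h : Act S p a η) (e : ∀ i, η i = γ i) : Act S p a γ := funext e ▸ h

theorem Act.pow (h : Act S p a η) (n : ℕ) : Act S p (a ^ n) η^[n] := by
  induction n with
  | zero => simpa using Act.one
  | succ n ih => rw [pow_succ]; exact ih.mul h

end Cfsg.Lib.X9M
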